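import Groth.Agent.EtCoh.K611.Fin
import Groth.Agent.EtCoh.K611.Surf
import Groth.Agent.Krr.H495.ExtExist

/-!
# The level one trace on a surface over a finite field

`exists_trace`: a non-zero functional on `H²(Ω²/dΩ¹)` with the same composites with `cl2` and `gam2`.
-/

set_option autoImplicit false

universe u

open CategoryTheory CategoryTheory.Limits AlgebraicGeometry Opposite

noncomputable section

namespace K38.D0

open K611.Sh K611.Seq K611.Seq2 K611.Om K611.Zar K611.Glue K611.Exact K611.Cart K611.Dict K611.Dual K611.VanEt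
  K611.Pair K611.Calc K611.Count K611.Curve K611.NodeT K611.Charts2 K611.Fin K611.Surf

/-- The trace, together with its étale form on two-forms. -/
theorem exists_trace' (k : Type u) [Field k] [Finite k] (p : ℕ) [Fact p.Prime] [CharP k p]
    (X : Scheme.{u}) (f : X ⟶ Spec (.of k)) [AlgebraicGeometry.IsIntegral X] [IsProper f]
    [SmoothOfRelativeDimension 2 f] (h : (p : Γ(X, ⊤)) = 0) :
    ∃ (t : EtCoh.H X (sh Q2F X) 2 →+ ZMod p) (t' : EtCoh.H X (sh Om2F X) 2 →+ ZMod p), t ≠ 0 ∧ t' ≠ 0 ∧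
      (∀ x : EtCoh.H X (sh Om2F X) 2, t (Sheaf.H.map ((cl2N p).sh h) 2 x) = t' x) ∧
      ∀ x : EtCoh.H X (sh Om2F X) 2, t (Sheaf.H.map ((gam2N p).sh h) 2 x) = t' x := by
  have hX := hasChartsN p k X f 2
  have h𝓑 := base k p X f 2
  have hga := van_ga k p X f 2 h
  have hom := van_om k p X f 2 h
  have hs : Function.Surjective (Sheaf.H.map ((TD2 p).cl.sh (X := X) h) 2) := surj_cl2' h hX 2 hga hom
  obtain ⟨L, hLf, hL⟩ := Groth.Agent.Krr.H495.ExtExist.exists_isExtPow 2 (Omega.sheaf f)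
    (Groth.Agent.Ega2.QCohLocal.isFinLocFree_of_rank
      (Groth.Agent.Dual.H339.OmegaRank.isFinLocFreeOfRank_omega 2 f))
  have hLc : Coh.IsCoh L := Groth.Agent.PerfA.CohSerre.isCoh_of_isFinLocFree hLf
  obtain ⟨T⟩ := K611.Om2L.exists_om2L (p := p) f hL h
  obtain ⟨t, ht, hd⟩ := main_t k p X f 2 (Or.inr rfl) (TD2 p) h L hLc hL T hs
  have ht0 : t ≠ 0 := by
    rintro rfl
    refine id_ne_zero (TD2 p) h h𝓑 T ((hd L hLc.1).1 ?_)
    rw [dm, dm, AddMonoidHom.zero_comp, AddMonoidHom.zero_comp]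
  have hta : ta h T t ≠ 0 := by
    intro h1
    apply ht0
    ext x
    have h2 : ta h T t (T.cmp (TD2 p).bc h 2 x) = 0 := by rw [h1]; rfl
    refine Eq.trans ?_ h2
    exact congrArg t ((T.cmp (TD2 p).bc h 2).symm_apply_apply x).symm
  refine ⟨tb h hX T t, ta h T t, fun h1 => hta ?_, hta, fun x => tb_cl h hX T t ht x, fun x => tb_gam h hX T t x⟩
  ext y
  rw [← tb_gam h hX T t y, h1]
  rfl

/-- NODE D0 -/
theorem exists_trace (k : Type u) [Field k] [Finite k] (p : ℕ) [Fact p.Prime] [CharP k p]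
    (X : Scheme.{u}) (f : X ⟶ Spec (.of k)) [AlgebraicGeometry.IsIntegral X] [IsProper f]
    [SmoothOfRelativeDimension 2 f] (h : (p : Γ(X, ⊤)) = 0) :
    ∃ t : EtCoh.H X (sh Q2F X) 2 →+ ZMod p, t ≠ 0 ∧
      ∀ x : EtCoh.H X (sh Om2F X) 2, t (Sheaf.H.map ((cl2N p).sh h) 2 x) = t (Sheaf.H.map ((gam2N p).sh h) 2 x) := by
  obtain ⟨t, t', ht, -, h1, h2⟩ := exists_trace' k p X f h
  exact ⟨t, ht, fun x => (h1 x).trans (h2 x).symm⟩

end K38.D0
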