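import Groth.Agent.EtCoh.K38.N1d

/-!
# The equivariant map `c` with `gam c = cl ρ`

For an equivariant map `ρ : T → Ω¹` with `d ρ = 0` from a torsor under `ν = G_m/p`.
-/

set_option autoImplicit false

universe u

open CategoryTheory CategoryTheory.Limits AlgebraicGeometry Opposite

noncomputable section

namespace K38.N1c

open K611.Gam K611.Gam2 K611.Frame K611.Sh K611.Seq K611.Seq2 K720.Tw K720.Pair K720.Nu K720.Lev1 K720.Equi
  KaehlerDifferential

variable {X : Scheme.{u}} {p : ℕ} [hp : Fact p.Prime] (h : (p : Γ(X, ⊤)) = 0)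

omit hp in
theorem db_cl_sh (U : X.Etale) (s : EtCoh.sect (sh OmF X) U) :
    ap ((dbN p).sh h) U (ap ((clN p).sh h) U s) = ap ((d1N p).sh h) U s := by
  have e : (clN p).sh (X := X) h ≫ (dbN p).sh h = (d1N p).sh h := by
    rw [← NT.sh_comp]
    rfl
  rw [← ap_comp, e]

theorem gam_dl (U : X.Etale) (x : EtCoh.sect (sh (nuF p) X) U) :
    ap ((gamN p).sh h) U (ap ((dlN p).sh h) U x) = ap ((clN p).sh h) U (ap ((dlN p).sh h) U x) := by
  have e : ap ((cgN p).sh h) U (ap ((dlN p).sh h) U x) = 0 := by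
    rw [← ap_comp, dlN_cgN]
    rfl
  rw [ap_cgN] at e
  exact (sub_eq_zero.1 e).symm

variable (hX : HasCharts X (GoodN p 2)) (T : Tor (sh (nuF p) X))

include hX in
/-- NODE N1c -/
theorem n1c (ρ : Eqv T ((dlN p).sh h))
    (hd : ∀ (V : X.Etale) (g : T.pt V), ap ((d1N p).sh h) V (ρ.r V g) = 0) :
    ∃ c : Eqv T ((dlN p).sh h), ∀ (V : X.Etale) (g : T.pt V),
      ap ((gamN p).sh h) V (c.r V g) = ap ((clN p).sh h) V (ρ.r V g) := by
  have hm : Mono ((gamN p).sh (X := X) h) := mono_sh hX h _ (inj_gam p 2)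
  have hex := exact_sh hX h (gamN p) (dbN p) (K611.VanEt.w_gam_db h) (exact_gam_db p)
  have key : ∀ (V : X.Etale) (g : T.pt V), ∃ s : EtCoh.sect (sh OmF X) V,
      ap ((gamN p).sh h) V s = ap ((clN p).sh h) V (ρ.r V g) := fun V g =>
    exists_of_exact (ShortComplex.mk ((gamN p).sh (X := X) h) ((dbN p).sh h) (K611.VanEt.w_gam_db h)) hex V
      (ap ((clN p).sh h) V (ρ.r V g)) ((db_cl_sh h V _).trans (hd V g))
  choose s hs using key
  refine ⟨⟨s, fun {V W} k g => ?_, fun V g x => ?_⟩, hs⟩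
  · refine ap_injective ((gamN p).sh h) W ?_
    rw [hs, ap_rs, hs, ρ.nat, ap_rs]
  · refine ap_injective ((gamN p).sh h) V ?_
    rw [hs, map_add, hs, ρ.tr, map_add, gam_dl]

end K38.N1c
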