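import Groth.Agent.EtCoh.K720.Equi
import Groth.Agent.EtCoh.K611.Surj

/-!
# Descent of the section attached to a closed equivariant map

For a torsor `T` under `ν = G_m/p` and equivariant maps `ρ, c : T → Ω¹` with `d ρ = 0` and `gam c = cl ρ`:
`sg ρ ≫ clG` descends along `cl : Ω¹ → Ω¹/dO` to `σ'`, and `gam ≫ σ' = sg c ≫ gmG`.
-/

set_option autoImplicit false

universe u

open CategoryTheory CategoryTheory.Limits AlgebraicGeometry Opposite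

noncomputable section

namespace K38.N1d

open K611.Gam K611.Gam2 K611.Frame K611.Sh K611.Seq K611.Seq2 K720.Tw K720.Pair K720.Nu K720.Lev1 K720.Equi
  KaehlerDifferential

variable {X : Scheme.{u}}

/-- Two sections which agree after refinement of a refinement are equal. -/
theorem exists_un' (A : CommRingCat.{u} ⥤ AddCommGrpCat.{u}) {U : X.Etale} (s : EtCoh.sect (sh A X) U) (x : U.left) :
    ∃ (V : X.Etale) (g : V ⟶ U) (v : V.left), g.left v = x ∧ ∃ a, un A V a = rs _ g s :=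
  exists_un A U s x

variable {p : ℕ} (h : (p : Γ(X, ⊤)) = 0)

theorem ap_un {A A' : CommRingCat.{u} ⥤ AddCommGrpCat.{u}} (φ : NT p A A') (V : X.Etale)
    (a : A.obj Γ(V.left, ⊤)) : ap (φ.sh h) V (un A V a) = un A' V (φ.app _ (h0 h V) a) := φ.sh_un h V a

theorem res_app {A A' : CommRingCat.{u} ⥤ AddCommGrpCat.{u}} (φ : NT p A A') {V W : X.Etale} (k : W ⟶ V)
    (a : A.obj Γ(V.left, ⊤)) : φ.app _ (h0 h W) (res A k a) = res A' k (φ.app _ (h0 h V) a) :=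
  φ.nat _ _ (h0 h V) (h0 h W) k.left.appTop a

/-- Refinement of an equality between images. -/
theorem refine_eq {A B C : CommRingCat.{u} ⥤ AddCommGrpCat.{u}} (φ : NT p A C) (ψ : NT p B C) {V : X.Etale}
    (a : A.obj Γ(V.left, ⊤)) (b : B.obj Γ(V.left, ⊤))
    (e : ap (φ.sh h) V (un A V a) = ap (ψ.sh h) V (un B V b)) (x : V.left) :
    ∃ (W : X.Etale) (k : W ⟶ V) (w : W.left), k.left w = x ∧
      φ.app _ (h0 h W) (res A k a) = ψ.app _ (h0 h W) (res B k b) := by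
  rw [ap_un, ap_un] at e
  obtain ⟨W, k, w, hw, hk⟩ := exists_eq_of_un_eq C V _ _ e x
  exact ⟨W, k, w, hw, by rw [res_app h φ, res_app h ψ, hk]⟩

theorem refine_zero {A C : CommRingCat.{u} ⥤ AddCommGrpCat.{u}} (φ : NT p A C) {V : X.Etale}
    (a : A.obj Γ(V.left, ⊤)) (e : ap (φ.sh h) V (un A V a) = 0) (x : V.left) :
    ∃ (W : X.Etale) (k : W ⟶ V) (w : W.left), k.left w = x ∧ φ.app _ (h0 h W) (res A k a) = 0 := by
  rw [ap_un, ← map_zero (un C V)] at e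
  obtain ⟨W, k, w, hw, hk⟩ := exists_eq_of_un_eq C V _ _ e x
  exact ⟨W, k, w, hw, by rw [res_app h φ, hk, map_zero]⟩

variable [hp : Fact p.Prime]

omit hp in
/-- `r ∧ da` is exact for `r` closed. -/
theorem cl2_w_d {V : X.Etale} (r : EtCoh.sect (sh OmF X) V) (a : EtCoh.sect (sh GaF X) V)
    (hr : ap ((d1N p).sh h) V r = 0) :
    ap ((cl2N p).sh h) V ((wΩ h).app V r (ap ((dN p).sh h) V a)) = 0 := by
  refine Groth.Agent.Etbase.EtSite.sect_eq_zero _ V _ fun x => ?_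
  obtain ⟨V₁, g₁, v₁, hv₁, ⟨r₀, hr₀⟩, ⟨a₀, ha₀⟩⟩ := exists_un₂ r a x
  obtain ⟨V₂, g₂, v₂, hv₂, h2⟩ := refine_zero h (d1N p) r₀ (by rw [hr₀, ap_rs, hr, map_zero]) v₁
  refine ⟨V₂, g₂ ≫ g₁, v₂, ?_, ?_⟩
  · change (g₂.left ≫ g₁.left) v₂ = x
    rw [Scheme.Hom.comp_apply, hv₂, hv₁]
  · change rs _ (g₂ ≫ g₁) _ = 0
    rw [← ap_rs, ← (wΩ h).nat, ← ap_rs, rs_comp, rs_comp, ← hr₀, ← ha₀, rs_un, rs_un, ap_un, Bi.sh_un, ap_un]
    have e : (cl2N p).app _ (h0 h V₂) ((wOm p).app _ (h0 h V₂) (res OmF g₂ r₀)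
        ((dN p).app _ (h0 h V₂) (res GaF g₂ a₀))) = 0 := cl2_w_D_right _ _ h2
    rw [e, map_zero]

/-- `r ∧ e = gam2 (c ∧ z)` for `r` closed with class `gam c` and `cl e = gam z`. -/
theorem cl2_w {V : X.Etale} (r c z e : EtCoh.sect (sh OmF X) V)
    (hr : ap ((d1N p).sh h) V r = 0) (hc : ap ((clN p).sh h) V r = ap ((gamN p).sh h) V c)
    (he : ap ((clN p).sh h) V e = ap ((gamN p).sh h) V z) :
    ap ((gam2N p).sh h) V ((wΩ h).app V c z) = ap ((cl2N p).sh h) V ((wΩ h).app V r e) := by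
  refine Groth.Agent.Etbase.EtSite.sect_ext _ V _ _ fun x => ?_
  obtain ⟨V₁, g₁, v₁, hv₁, ⟨r₀, hr₀⟩, ⟨c₀, hc₀⟩⟩ := exists_un₂ r c x
  obtain ⟨V₂, g₂, v₂, hv₂, ⟨z₀, hz₀⟩, ⟨e₀, he₀⟩⟩ := exists_un₂ (rs _ g₁ z) (rs _ g₁ e) v₁
  obtain ⟨V₃, g₃, v₃, hv₃, h3⟩ := refine_zero h (d1N p) (res OmF g₂ r₀)
    (by rw [← rs_un, ap_rs, hr₀, ap_rs, hr, map_zero, map_zero]) v₂
  obtain ⟨V₄, g₄, v₄, hv₄, h4⟩ := refine_eq h (clN p) (gamN p) (res OmF g₃ (res OmF g₂ r₀)) (res OmF g₃ (res OmF g₂ c₀))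
    (by simp only [← rs_un, hr₀, hc₀, ap_rs, hc]) v₃
  obtain ⟨V₅, g₅, v₅, hv₅, h5⟩ := refine_eq h (clN p) (gamN p) (res OmF g₄ (res OmF g₃ e₀)) (res OmF g₄ (res OmF g₃ z₀))
    (by simp only [← rs_un, he₀, hz₀, ap_rs, he]) v₄
  refine ⟨V₅, g₅ ≫ g₄ ≫ g₃ ≫ g₂ ≫ g₁, v₅, ?_, ?_⟩
  · change (g₅.left ≫ g₄.left ≫ g₃.left ≫ g₂.left ≫ g₁.left) v₅ = x
    rw [Scheme.Hom.comp_apply, Scheme.Hom.comp_apply, Scheme.Hom.comp_apply, Scheme.Hom.comp_apply, hv₅, hv₄, hv₃,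
      hv₂, hv₁]
  · change rs _ (g₅ ≫ g₄ ≫ g₃ ≫ g₂ ≫ g₁) _ = rs _ (g₅ ≫ g₄ ≫ g₃ ≫ g₂ ≫ g₁) _
    have er : rs _ (g₅ ≫ g₄ ≫ g₃ ≫ g₂ ≫ g₁) r = un OmF V₅ (res OmF g₅ (res OmF g₄ (res OmF g₃ (res OmF g₂ r₀)))) := by
      rw [← rs_un, ← rs_un, ← rs_un, ← rs_un, hr₀, rs_comp, rs_comp, rs_comp, rs_comp]
    have ec : rs _ (g₅ ≫ g₄ ≫ g₃ ≫ g₂ ≫ g₁) c = un OmF V₅ (res OmF g₅ (res OmF g₄ (res OmF g₃ (res OmF g₂ c₀)))) := by
      rw [← rs_un, ← rs_un, ← rs_un, ← rs_un, hc₀, rs_comp, rs_comp, rs_comp, rs_comp]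
    have ez : rs _ (g₅ ≫ g₄ ≫ g₃ ≫ g₂ ≫ g₁) z = un OmF V₅ (res OmF g₅ (res OmF g₄ (res OmF g₃ z₀))) := by
      rw [← rs_un, ← rs_un, ← rs_un, hz₀, rs_comp, rs_comp, rs_comp, rs_comp]
    have ee : rs _ (g₅ ≫ g₄ ≫ g₃ ≫ g₂ ≫ g₁) e = un OmF V₅ (res OmF g₅ (res OmF g₄ (res OmF g₃ e₀))) := by
      rw [← rs_un, ← rs_un, ← rs_un, he₀, rs_comp, rs_comp, rs_comp, rs_comp]
    rw [← ap_rs, ← ap_rs, ← (wΩ h).nat, ← (wΩ h).nat, er, ec, ez, ee, Bi.sh_un, Bi.sh_un, ap_un, ap_un]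
    congr 1
    have k1 : d1 (res OmF g₅ (res OmF g₄ (res OmF g₃ (res OmF g₂ r₀))) : Ω[Γ(V₅.left, ⊤)⁄ℤ]) = 0 := by
      have := res_app h (d1N p) g₅ (res OmF g₄ (res OmF g₃ (res OmF g₂ r₀)))
      rw [res_app h (d1N p) g₄, h3, map_zero, map_zero] at this
      exact this
    have k2 : cl (res OmF g₅ (res OmF g₄ (res OmF g₃ (res OmF g₂ r₀))) : Ω[Γ(V₅.left, ⊤)⁄ℤ]) =
        gam p (h0 h V₅) (res OmF g₅ (res OmF g₄ (res OmF g₃ (res OmF g₂ c₀)))) := by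
      have e1 := res_app h (clN p) g₅ (res OmF g₄ (res OmF g₃ (res OmF g₂ r₀)))
      have e2 := res_app h (gamN p) g₅ (res OmF g₄ (res OmF g₃ (res OmF g₂ c₀)))
      rw [h4] at e1
      exact e1.trans e2.symm
    exact gam2_w' p (h0 h V₅) k2 h5 k1

variable (hX : HasCharts X (GoodN p 2)) (T : Tor (sh (nuF p) X))

omit hp in
theorem dN_clN : (dN p).sh (X := X) h ≫ (clN p).sh h = 0 := by
  rw [← NT.sh_comp]
  exact NT.sh_eq_zero _ _ fun B hB a => cl_d p hB a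

include hX in
/-- NODE N1d -/
theorem n1d (ρ c : Eqv T ((dlN p).sh h))
    (hd : ∀ (V : X.Etale) (g : T.pt V), ap ((d1N p).sh h) V (ρ.r V g) = 0)
    (hc : ∀ (V : X.Etale) (g : T.pt V), ap ((gamN p).sh h) V (c.r V g) = ap ((clN p).sh h) V (ρ.r V g)) :
    ∃ σ' : sh QF X ⟶ GQ h T, (clN p).sh h ≫ σ' = sg h ρ ≫ clG h T ∧ (gamN p).sh h ≫ σ' = sg h c ≫ gmG h T := by
  have hX' := K611.VanEt.charts_good hX
  have hex := exact_sh hX' h (dN p) (clN p) (dN_clN h) (exact_d_cl p)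
  have hepi : Epi ((clN p).sh (X := X) h) := epi_sh hX' h _ (surj_cl p)
  have hz : (dN p).sh h ≫ sg h ρ ≫ clG h T = 0 := by
    refine K720.Tw.hom_ext fun U a => ?_
    refine tw_ext (T := T) (β := bq h) ?_ fun V f g => ?_
    · change ap (π T (bq h)) U (ap (clG h T) U (ap (sg h ρ) U (ap ((dN p).sh h) U a))) = 0
      rw [π_clG]
      change ap ((clN p).sh h) U (ap ((dN p).sh h) U a) = 0
      rw [← ap_comp, dN_clN]
      rfl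
    · change ev T (bq h) g (rs (GQ h T) f (ap (clG h T) U (ap (sg h ρ) U (ap ((dN p).sh h) U a)))) =
        ev T (bq h) g (rs (GQ h T) f 0)
      rw [map_zero, map_zero, ← ap_rs, ev_clG, ← ap_rs, ev_sig, ← ap_rs]
      exact cl2_w_d h _ _ (hd V g)
  let σ' : sh QF X ⟶ GQ h T := hex.gIsCokernel.desc (CokernelCofork.ofπ (f := (dN p).sh h) (sg h ρ ≫ clG h T) hz)
  have hσ : (clN p).sh h ≫ σ' = sg h ρ ≫ clG h T :=
    hex.gIsCokernel.fac (CokernelCofork.ofπ (f := (dN p).sh h) (sg h ρ ≫ clG h T) hz) WalkingParallelPair.one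
  refine ⟨σ', hσ, K720.Tw.hom_ext fun U z => ?_⟩
  refine Groth.Agent.Etbase.EtSite.sect_ext _ U _ _ fun x => ?_
  obtain ⟨V, k, v, hv, ⟨g⟩⟩ := exists_pt (T := T) x
  obtain ⟨V₁, k₁, v₁, hv₁, e, he⟩ := exists_local ((clN p).sh h) V (ap ((gamN p).sh h) V (rs _ k z)) v
  refine ⟨V₁, k₁ ≫ k, v₁, ?_, ?_⟩
  · change (k₁.left ≫ k.left) v₁ = x
    rw [Scheme.Hom.comp_apply, hv₁, hv]
  · change rs (GQ h T) (k₁ ≫ k) (ap ((gamN p).sh h ≫ σ') U z) = rs (GQ h T) (k₁ ≫ k) (ap (sg h c ≫ gmG h T) U z)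
    have he' : ap ((clN p).sh h) V₁ e = ap ((gamN p).sh h) V₁ (rs _ (k₁ ≫ k) z) := by
      rw [he, rs_comp, ap_rs _ k₁]
    rw [← ap_rs, ← ap_rs, ap_comp, ap_comp, ← he', ← ap_comp, hσ, ap_comp]
    refine tw_ext_pt (T := T) (β := bq h) (T.rp k₁ g) ?_ ?_
    · rw [π_clG, π_gmG]
      exact he'
    · rw [ev_clG, ev_gmG, ev_sig, ev_sig]
      exact (cl2_w h _ _ _ _ (hd _ _) (hc _ _).symm he').symm

end K38.N1d
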